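import Cfsg.Agent.Screen.CosetEnum.Core

/-!
# Cosets of the certificate
-/

set_option autoImplicit false
set_option maxRecDepth 20000

namespace Cfsg.Agent.Screen.CosetEnum.HeOrd.HeL0

open Cfsg.Agent.Screen.CosetEnum

def cosetTree0 : Tr :=
  (.leaf 0x6c00001000aa0006b00002000b100061000010009c0006000002000ad0005f00001000960005e00002000980005e00000000a90005d000020007f0005d000000007b0005c00000000800005b00001000910005a00002000a60005a00001000b000059000010007c00058000020007a00058000000009d00057000010008100056000010008700055000020008500055000000009700054000000008600053000010008a0005200002000a30005200001000ae0004f00002000770004f00001000990004e000010007e0004b00001000920004a00002000900004a00000000a700047000020006500047000010007900045000000006a00043000020006d0004300001000840003f00001000890003e000020008b0003e00000000a20003d000010005f0003c00002000610003c000000007600039000000006b00037000000006000036000010005c00035000020007300035000010008f00034000010004c00033000020004a00033000000006600031000020003300031000010004f00030000020005200030000000006e0002f00001000420002e000000004b0002d00001000550002c00002000710002c000010008c0002a00002000470002a000010006200029000020002b00029000000004300028000010004e00027000000003f00026000010005d00025000020005b00025000000007400023000020002f00023000010004900022000020001d0002200000000320002100001000510002000000000350001f00001000540001e00002000560001e00000000700001d000020002c0001d00000000460001c000010002a0001b000000003e0001a000010002700019000020003b00019000010005a00018000020001c00018000000003000017000010001e00016000000003600015000010002100014000020003900014000010005700013000010002d00012000000001900011000010002800010000020002600010000000003c0000f000010001b0000e000000000f0000d00001000200000c00002000220000c00000000380000b00000000180000a000010000c00009000020001500009000010002500008000000001000007000010000600006000020001300006000010002300005000010000d00004000020000b00004000000001600003000010000500002000020000700002000000001200001000020000200001000010000a000000000200001000000000100008000000000000003000000000000000)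

/-- Packed table. -/
def cosetTree : Tr := cosetTree0

end Cfsg.Agent.Screen.CosetEnum.HeOrd.HeL0
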