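import Cfsg.Agent.Screen.CosetEnum.Core

/-!
# Facts of the certificate
-/

set_option autoImplicit false
set_option maxRecDepth 20000

namespace Cfsg.Agent.Screen.CosetEnum.HeOrd.HeL0

open Cfsg.Agent.Screen.CosetEnum

def factTree0 : Tr :=
  (.leaf 0xad00000000b1000b000000000ae000a900001000b1000b100002000b0000b000001000a7000a200001000ae000ae00002000ad000ad000010009d000a600001000aa0009800000000aa000aa00002000a9000a900000000990008f00000000a7000a700002000a6000a600000000900009c00001000a30008b00000000a3000a300002000a2000a2000000008c0008a000000008700084000000009700091000000008100079000000009d0009d000020009c0009c000000007a0009600000000850007600001000990009900002000980009800001000970009700002000960009600001000770007c000000007f00092000000008000073000010009200092000020009100091000010009000090000020008f0008f000010007400089000000008600070000010008c0008c000020008b0008b000010008a0008a00002000890008900001000710006d000010008700087000020008600086000010008500085000020008400084000010006e0007e000000007b0006a000010008100081000020008000080000010007f0007f000020007e0007e000010006b00065000010007c0007c000020007b0007b000010007a0007a00002000790007900001000660006100000000770007700002000760007600000000620005a000000007400074000020007300073000000005b00056000000007100071000020007000070000000005700051000000006e0006e000020006d0006d00000000520004e000000006b0006b000020006a0006a000000004f00060000000005d00055000000004c00049000000006600066000020006500065000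000004a0005f000000005c00046000010006200062000020006100061000010006000060000020005f0005f00001000470003b000010005d0005d000020005c0005c000010005b0005b000020005a0005a000010003c00054000000004b00038000010005700057000020005600056000010005500055000020005400054000010003900043000010005200052000020005100051000010003600032000010004f0004f000020004e0004e000010003e0002f000010004c0004c000020004b0004b000010004a0004a00002000490004900001000300002c000000004700047000020004600046000000002d0003500001000420002a000000004300043000020004200042000000002b00033000010003f00027000000003f0003f000020003e0003e000000002800025000000003c0003c000020003b0003b00000000260002200000000390003900002000380003800000000230002000000000360003600002000350003500000000210001d000000003300033000020003200032000000001e0001b000000003000030000020002f0002f000000001c00018000010002d0002d000020002c0002c000010002b0002b000020002a0002a00001000190001500001000280002800002000270002700001000260002600002000250002500001000160001200001000230002300002000220002200001000210002100002000200002000001000130000f000010001e0001e000020001d0001d000010001c0001c000020001b0001b00001000100000c000000001900019000020001800018000000000d0000a000000001600016000020001500015000000000b00007000000001300013000020001200012000000000800005000000001000010000020000f0000f000000000600002000010000d0000d000020000c0000c000010000b0000b000020000a0000a0000100003000000000100008000080000200007000070000100006000060000200005000050000100001000000000000003000030000200002000020000000001000010000200000)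

/-- Packed table. -/
def factTree : Tr := factTree0

end Cfsg.Agent.Screen.CosetEnum.HeOrd.HeL0
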