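import Cfsg.Agent.Screen.CosetEnum.Core

/-!
# Rows of the certificate
-/

set_option autoImplicit false
set_option maxRecDepth 20000

namespace Cfsg.Agent.Screen.CosetEnum.HeOrd.HeL0

open Cfsg.Agent.Screen.CosetEnum

def rowTree0 : Tr :=
  (.leaf 0xa900071000ab0006c000aa00072000b00006b000b100071000b3000740009c00068000a4000610009b00069000ad00060000ac00068000b3000760009600064000950005f0009a00065000980005e0009700064000aa00077000a900077000b100076000a80005e0007e0005d0007f0006e000940006a0007b0006a0007a00069000820005d00080000670007f00070000930005c000910005c000900005b0009e00067000a60005a000ab00077000a50005b000b000076000af0005a000b2000600007b0006f0007c00059000940007000079000580007a0006f0009b000750009c00075000ac000740009d00058000800006e00081000570009e0006d00086000630008700056000a000062000840005500085000630009a00073000960007300097000720009f00055000860006600085000650008d0005400089000540008a00053000a000066000a200052000a400075000a300053000ad00074000ae00052000b20006b000760004f000950007300077000500009800072000990004f000a8000710007e000700007d0004e000820006f000910006d000920004b000930006e0008f0004a000900006d000a50006c000a60006c000af0006b000a70004a00065000470007c0006a0006400048000790006900078000470009d000680006a0004e000810006700069000450006d0004300087000660006c00044000840006500083000430009f000640008900062000880003f0008d000630008b0003e0008a00062000a300061000a200061000ae00060000a10003e0005f0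004d0005e0003d000630004c000610003c000600004d000770005f000760005f000990005e000750003c0006a000570007d0005d0006b000390005f00051000600005000068000370005c000370005b0003600063000510007300035000920005c00072000360008f0005b0008e00035000a70005a0004b000410004c00034000670004000049000330004a0004100064000590006500059000780005800066000330003200031000400003800033000320004e000390004f0003100069000570005100030000520003a0006c000560006d0005600083000550006e00030000420003a000440002f000410003b0004b000490004a00048000580002e000540002e000550002d0006700049000700002c0008800054000710002d0008b000530008c0002c000a100052000460002a0005e00051000470002b0006100050000620002a000750004f0002a000290002b0002b00041000420004200042000520004400043000290004e000450004d000280006b0004e0003e0002800040000460003f000270005c0004c0005d00026000680004d0005a000250005b0004c000720004b000730004b0008e0004a00074000250002f000230004c000490002e000240004900048000480002300066000470001d000220001c00024000330004600032000460004f000450003100022000510004400050000210006e000430003500021000440004200034000200005400040000530001f0005800041000560001e0005500040000710003f000700003f0008c0003e0006f0001e0002c0001d0002b0003b000470003d000460003d000620003c000450001d0002a0003b000290001c000430003a0003e000380004d000390003d0001b000270001b000260001a0003f000380003b000190005d000370003a0001a0005a00036000590001900074000350001b000180001c000320002e000340002f000340004800033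00030000180001d000320001e000170003100031000350002f0005000030000360001600020000160002100015000340002f0003800014000530002e0003900015000560002d00057000140006f0002c0002c0002b0002d00013000450002a000180001300029000290001900012000270002700028000110003d00028000250001000026000270003a000260003b0002600059000250003c000100001b000240001a0000f00030000230000f0000f0001e000220000e0000e00020000200001f0000d0003600021000220000c0002100020000390001f000380001f000570001e000370000c000180001c0002d0001d000170000b0000c0000b0000b0000a000190001c0001500009000280001b000140000a000250001a00024000090003c000190000f000170001a000180001000008000050000800006000070000e0001700012000060001f0001600013000070002200015000230000600037000140000c000120000d0000500017000130000a000040000b000120001400011000150001100024000100001600004000050000e0000400003000100000f0000700002000060000e000130000d000120000d000230000c000110000200002000010000d0000b00001000030000a0000a00009000010001600009000000000000004000080000100005000070000700008000000001100006000020000500009000040000300000000000000300008000020000300001)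

/-- Packed table. -/
def rowTree : Tr := rowTree0

end Cfsg.Agent.Screen.CosetEnum.HeOrd.HeL0
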